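import Mathlib
import Groth.Agent.Lib.Helper25.SmoothReduced

/-!
# Rigidity along a section with connected fibres

* `eq_zero_of_section`: let `p : X ⟶ Z` be a morphism from a reduced scheme with (pre)connected
  fibres and a section `σ`. A global function `d` on `X` vanishing along `σ` and satisfying
  `d ^ j * c = 0` with `c = w + d * b`, `w` a unit, is zero.
* `eq_zero_of_section_of_isIntegral`: the same for `d` algebraic over a field `k`.
* `isReduced_of_smooth`: a scheme smooth over a reduced scheme is reduced.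
-/

set_option autoImplicit false
universe u
open CategoryTheory CategoryTheory.Limits AlgebraicGeometry

namespace Groth.Agent.Lib.Helper19.Act

theorem eq_zero_of_section {X Z : Scheme.{u}} [IsReduced X] (p : X ⟶ Z) (σ : Z ⟶ X)
    (hσ : σ ≫ p = 𝟙 Z) (hconn : ∀ z : Z, _root_.IsPreconnected (p ⁻¹' {z}))
    (d c b w : Γ(X, ⊤)) (hw : IsUnit w) (hc : c = w + d * b) (j : ℕ) (hj : d ^ j * c = 0)
    (hd : σ.appTop d = 0) : d = 0 := by
  -- `d * c = 0`
  have hdc : d * c = 0 := by
    have hnil : IsNilpotent (d * c) := by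
      refine ⟨j + 1, ?_⟩
      have : (d * c) ^ (j + 1) = (d ^ j * c) * (d * c ^ j) := by ring
      rw [this, hj, zero_mul]
    exact hnil.eq_zero
  have hinf : X.basicOpen d ⊓ X.basicOpen c = ⊥ := by
    rw [← Scheme.basicOpen_mul, hdc, Scheme.basicOpen_zero]
  have hsup : X.basicOpen d ⊔ X.basicOpen c = ⊤ := by
    rw [eq_top_iff]
    have h1 : X.basicOpen w = ⊤ := Scheme.basicOpen_of_isUnit _ hw
    have hw' : w = c + d * (-b) := by rw [hc]; ring
    refine h1.ge.trans ?_
    rw [hw']
    refine (X.basicOpen_add_le _ _).trans ?_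
    rw [sup_comm]
    refine sup_le_sup_right ?_ _
    rw [Scheme.basicOpen_mul]
    exact inf_le_left
  -- `D(c)` is clopen
  have hcompl : ((X.basicOpen c : X.Opens) : Set X) = ((X.basicOpen d : X.Opens) : Set X)ᶜ := by
    ext x
    simp only [Set.mem_compl_iff, SetLike.mem_coe]
    constructor
    · intro hxc hxd
      have : x ∈ X.basicOpen d ⊓ X.basicOpen c := ⟨hxd, hxc⟩
      rw [hinf] at this
      exact this
    · intro hxd
      have : x ∈ X.basicOpen d ⊔ X.basicOpen c := by rw [hsup]; trivial
      rcases this with h | h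
      · exact absurd h hxd
      · exact h
  have hclopen : IsClopen ((X.basicOpen c : X.Opens) : Set X) :=
    ⟨by rw [hcompl]; exact (X.basicOpen d).2.isClosed_compl, (X.basicOpen c).2⟩
  -- the section avoids `D(d)`
  have hσd : ∀ z : Z, σ z ∈ X.basicOpen c := by
    intro z
    have h1 : σ ⁻¹ᵁ X.basicOpen d = ⊥ := by
      rw [Scheme.preimage_basicOpen_top, hd, Scheme.basicOpen_zero]
    have h2 : σ z ∉ X.basicOpen d := by
      intro h
      have : z ∈ σ ⁻¹ᵁ X.basicOpen d := h
      rw [h1] at this
      exact this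
    have : σ z ∈ ((X.basicOpen c : X.Opens) : Set X) := by rw [hcompl]; exact h2
    exact this
  have htop : X.basicOpen c = ⊤ := by
    rw [eq_top_iff]
    intro x _
    have hsub : p ⁻¹' {p x} ⊆ ((X.basicOpen c : X.Opens) : Set X) := by
      refine (hconn (p x)).subset_isClopen hclopen ⟨σ (p x), ?_, hσd _⟩
      change p (σ (p x)) = p x
      rw [← Scheme.Hom.comp_apply, hσ]
      rfl
    exact hsub (Set.mem_singleton _)
  have hbot : X.basicOpen d = ⊥ := by
    rw [htop, inf_top_eq] at hinf
    exact hinf
  exact (basicOpen_eq_bot_iff d).mp hbot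

/-- Polynomial version: a global function on `X` which is a root of a nonzero polynomial over a
field `k` and vanishes along the section is zero. -/
theorem eq_zero_of_section_of_eval₂ {k : Type*} [Field k] {X Z : Scheme.{u}} [IsReduced X]
    (p : X ⟶ Z) (σ : Z ⟶ X)
    (hσ : σ ≫ p = 𝟙 Z) (hconn : ∀ z : Z, _root_.IsPreconnected (p ⁻¹' {z}))
    (i : k →+* Γ(X, ⊤)) (d : Γ(X, ⊤)) (P : Polynomial k) (hP : P ≠ 0)
    (hPd : P.eval₂ i d = 0) (hd : σ.appTop d = 0) : d = 0 := by
  obtain ⟨q, hq, hdvd⟩ := Polynomial.exists_eq_pow_rootMultiplicity_mul_and_not_dvd P hP 0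
  rw [map_zero, sub_zero] at hq hdvd
  have hq0 : q.coeff 0 ≠ 0 := fun h => hdvd (Polynomial.X_dvd_iff.mpr h)
  have hqq : q = Polynomial.C (q.coeff 0) + Polynomial.X * q.divX := by
    conv_lhs => rw [← Polynomial.divX_mul_X_add q]
    ring
  refine eq_zero_of_section p σ hσ hconn d (q.eval₂ i d) (q.divX.eval₂ i d) (i (q.coeff 0))
    ((isUnit_iff_ne_zero.mpr hq0).map i) ?_ (Polynomial.rootMultiplicity 0 P) ?_ hd
  · conv_lhs => rw [hqq]
    rw [Polynomial.eval₂_add, Polynomial.eval₂_C, Polynomial.eval₂_mul, Polynomial.eval₂_X]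
  · rw [← hPd]
    conv_rhs => rw [hq]
    rw [Polynomial.eval₂_mul, Polynomial.eval₂_pow, Polynomial.eval₂_X]

/-- an affine scheme smooth over a reduced affine scheme is reduced -/
theorem isReduced_of_smooth_of_isAffine {W V : Scheme.{u}} [IsAffine W] [IsAffine V] (s : W ⟶ V)
    [hs : Smooth s] [IsReduced V] : IsReduced W := by
  rw [HasRingHomProperty.iff_of_isAffine (P := @Smooth)] at hs
  algebraize [s.appTop.hom]
  have : _root_.IsReduced Γ(W, ⊤) := Groth.Agent.Lib.Helper25.isReduced_of_smooth Γ(V, ⊤) _
  exact isReduced_of_isAffine_isReduced W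

/-- a scheme smooth over a reduced scheme is reduced -/
theorem isReduced_of_smooth {U V : Scheme.{u}} (g : U ⟶ V) [Smooth g] [IsReduced V] :
    IsReduced U := by
  have hV : ∀ j, IsReduced (V.affineCover.X j) := fun j =>
    isReduced_of_isOpenImmersion (V.affineCover.f j)
  have : ∀ j, IsReduced ((V.affineCover.pullback₁ g).X j) := by
    intro j
    have : ∀ k, IsReduced (((V.affineCover.pullback₁ g).X j).affineCover.X k) := by
      intro k
      have := hV j
      let p : (V.affineCover.pullback₁ g).X j ⟶ V.affineCover.X j :=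
        pullback.snd g (V.affineCover.f j)
      have h1 : Smooth p :=
        MorphismProperty.pullback_snd (P := @Smooth) _ _ inferInstance
      have h2 : Smooth (((V.affineCover.pullback₁ g).X j).affineCover.f k ≫ p) := inferInstance
      exact isReduced_of_smooth_of_isAffine
        (((V.affineCover.pullback₁ g).X j).affineCover.f k ≫ p)
    exact IsReduced.of_openCover _ ((V.affineCover.pullback₁ g).X j).affineCover
  exact IsReduced.of_openCover U (V.affineCover.pullback₁ g)

end Groth.Agent.Lib.Helper19.Act
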