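import Mathlib
import Groth.Prelude.Def_AlgGrp
import Groth.Agent.Lib.Helper19.Act.SectionRigid
import Groth.Agent.Lib.Helper19.GC.Main
import Groth.Agent.Lib.Helper11.ZeroDim
import Groth.Agent.Lib.Helper84.TopDim

/-!
# A smooth connected group acts trivially on a reduced zero-dimensional scheme of finite type
-/

set_option autoImplicit false
universe u
open CategoryTheory CategoryTheory.Limits AlgebraicGeometry MonoidalCategory
  CartesianMonoidalCategory MonObj

namespace Groth.Agent.Lib.Helper19.Act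

/-- A scheme of finite type and dimension `≤ 0` over a field is affine with discrete finite
underlying space. -/
theorem isAffine_of_dim_le_zero {k : Type u} [Field k] {Z : Scheme.{u}}
    (f : Z ⟶ Spec (CommRingCat.of k)) [LocallyOfFiniteType f] [QuasiCompact f]
    (hdim : topologicalKrullDim Z ≤ 0) : IsAffine Z ∧ DiscreteTopology Z := by
  haveI : IsLocallyNoetherian Z := LocallyOfFiniteType.isLocallyNoetherian f
  haveI : CompactSpace Z := QuasiCompact.compactSpace_of_compactSpace f
  haveI : IsNoetherian Z := {}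
  obtain ⟨_, hdisc⟩ := Groth.Agent.Lib.Helper84.finite_discrete_of_dim_le_zero hdim
  refine ⟨?_, hdisc⟩
  haveI : QuasiSeparatedSpace Z := by
    constructor
    intro U V _ _ _ _
    exact (Set.toFinite _).isCompact
  have h := Groth.Agent.Lib.Helper11.ZeroDim.isAffineOpen_of_isCompact (⊤ : Z.Opens)
    isCompact_univ
  haveI : IsAffine ((⊤ : Z.Opens) : Scheme.{u}) := h
  exact .of_isIso Z.topIso.inv

/-- Global functions on a scheme of finite type and dimension `≤ 0` over a field `k` are
integral over `k`. -/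
theorem isIntegral_appTop_of_dim_le_zero {k : Type u} [Field k] {Z : Scheme.{u}}
    (f : Z ⟶ Spec (CommRingCat.of k)) [LocallyOfFiniteType f] [QuasiCompact f]
    (hdim : topologicalKrullDim Z ≤ 0) :
    (((Scheme.ΓSpecIso (CommRingCat.of k)).inv ≫ f.appTop).hom).IsIntegral := by
  obtain ⟨hZ, hdisc⟩ := isAffine_of_dim_le_zero f hdim
  have hft : RingHom.FiniteType f.appTop.hom := by
    have hf : LocallyOfFiniteType f := inferInstance
    rwa [HasRingHomProperty.iff_of_isAffine (P := @LocallyOfFiniteType)] at hf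
  set φ : CommRingCat.of k ⟶ Γ(Z, ⊤) := (Scheme.ΓSpecIso (CommRingCat.of k)).inv ≫ f.appTop
    with hφ
  have hφft : RingHom.FiniteType φ.hom := by
    rw [hφ, CommRingCat.hom_comp]
    exact hft.comp (RingHom.FiniteType.of_surjective _
      (ConcreteCategory.bijective_of_isIso (Scheme.ΓSpecIso (CommRingCat.of k)).inv).2)
  algebraize [φ.hom]
  -- `Γ(Z, ⊤)` has Krull dimension `≤ 0`
  have hkd : Ring.KrullDimLE 0 Γ(Z, ⊤) := by
    rw [Ring.krullDimLE_zero_iff]
    intro I hI
    have hcl : IsClosed ({⟨I, hI⟩} : Set (PrimeSpectrum Γ(Z, ⊤))) := by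
      have hd : DiscreteTopology (PrimeSpectrum Γ(Z, ⊤)) :=
        (Z.isoSpec.hom.homeomorph).discreteTopology
      exact isClosed_discrete _
    exact (PrimeSpectrum.isClosed_singleton_iff_isMaximal _).mp hcl
  have hfin : Module.Finite k Γ(Z, ⊤) := (Module.finite_iff_krullDimLE_zero k Γ(Z, ⊤)).mpr hkd
  intro x
  exact (Algebra.IsIntegral.isIntegral (R := k) x)

/-- Over a field, every action of a smooth connected group scheme on a reduced scheme of finite
type and dimension `≤ 0` is trivial. -/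
theorem act_eq_snd_of_dim_le_zero (k : Type u) [Field k]
    (G Z : Over (Spec (CommRingCat.of k))) [GrpObj G] [Smooth G.hom] [ConnectedSpace ↥G.left]
    [LocallyOfFiniteType Z.hom] [QuasiCompact Z.hom] [IsReduced Z.left]
    (hdim : topologicalKrullDim ↥Z.left ≤ 0)
    (a : AlgGrp.Action G Z) : a.act = CartesianMonoidalCategory.snd G Z := by
  obtain ⟨hZ, hdisc⟩ := isAffine_of_dim_le_zero Z.hom hdim
  have hint := isIntegral_appTop_of_dim_le_zero Z.hom hdim
  -- geometric connectedness
  haveI hgc : GeometricallyConnected G.hom :=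
    geometricallyConnected_of_section G.hom η[G].left (Over.w η[G])
  -- the section
  let σ' : Z ⟶ G ⊗ Z := (λ_ Z).inv ≫ (η[G] ▷ Z)
  have hσa : σ' ≫ a.act = 𝟙 Z := by
    simp only [σ', Category.assoc, a.one_act, Iso.inv_hom_id]
  have hσs : σ' ≫ CartesianMonoidalCategory.snd G Z = 𝟙 Z := by
    simp only [σ', Category.assoc, whiskerRight_snd, ← leftUnitor_hom, Iso.inv_hom_id]
  set p : (G ⊗ Z).left ⟶ Z.left := (CartesianMonoidalCategory.snd G Z).left with hp
  set u : (G ⊗ Z).left ⟶ Z.left := a.act.left with hu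
  set σ : Z.left ⟶ (G ⊗ Z).left := σ'.left with hσ
  have hσp : σ ≫ p = 𝟙 Z.left := by
    rw [hσ, hp, ← Over.comp_left, hσs]; rfl
  have hσu : σ ≫ u = 𝟙 Z.left := by
    rw [hσ, hu, ← Over.comp_left, hσa]; rfl
  have hpe : p = pullback.snd G.hom Z.hom := rfl
  haveI : GeometricallyConnected p := by rw [hpe]; infer_instance
  haveI : Smooth p := by rw [hpe]; infer_instance
  haveI : IsReduced (G ⊗ Z).left := isReduced_of_smooth p
  have hconn : ∀ z : Z.left, _root_.IsPreconnected (p ⁻¹' {z}) :=
    fun z => (p.isConnected_preimage_singleton z).isPreconnected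
  -- reduce to global sections
  refine Over.OverMorphism.ext ?_
  change u = p
  refine ext_of_isAffine ?_
  refine CommRingCat.hom_ext (RingHom.ext fun r => ?_)
  rw [← sub_eq_zero]
  set φ : CommRingCat.of k ⟶ Γ(Z.left, ⊤) :=
    (Scheme.ΓSpecIso (CommRingCat.of k)).inv ≫ Z.hom.appTop with hφ
  have hup : u ≫ Z.hom = p ≫ Z.hom := by
    rw [hu, hp, Over.w, Over.w]
  have hφup : φ ≫ u.appTop = φ ≫ p.appTop := by
    rw [hφ, Category.assoc, Category.assoc, ← Scheme.Hom.comp_appTop, ← Scheme.Hom.comp_appTop, hup]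
  -- integrality
  have h1 : (φ ≫ p.appTop).hom.IsIntegralElem (u.appTop r) := by
    obtain ⟨P, hP, hPr⟩ := hint r
    refine ⟨P, hP, ?_⟩
    rw [← hφup, CommRingCat.hom_comp, ← Polynomial.hom_eval₂, hPr, map_zero]
  have h2 : (φ ≫ p.appTop).hom.IsIntegralElem (p.appTop r) := by
    obtain ⟨P, hP, hPr⟩ := hint r
    refine ⟨P, hP, ?_⟩
    rw [CommRingCat.hom_comp, ← Polynomial.hom_eval₂, hPr, map_zero]
  obtain ⟨P, hP, hPd⟩ := RingHom.IsIntegralElem.sub _ h1 h2
  refine eq_zero_of_section_of_eval₂ p σ hσp hconn (φ ≫ p.appTop).hom _ P hP.ne_zero hPd ?_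
  rw [map_sub, sub_eq_zero]
  have e1 : σ.appTop (u.appTop r) = (σ ≫ u).appTop r := by
    rw [Scheme.Hom.comp_appTop]; rfl
  have e2 : σ.appTop (p.appTop r) = (σ ≫ p).appTop r := by
    rw [Scheme.Hom.comp_appTop]; rfl
  rw [e1, e2, hσu, hσp]

end Groth.Agent.Lib.Helper19.Act
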